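import Groth.Agent.L12.DefTLib.Hartogs
import Groth.Agent.L13.HartogsFF.Morph
import Groth.Agent.L02.CAlg.QFSlice.FibreStalk
import Groth.Agent.L21.Smooth.Scheme
import Groth.Agent.L01.Regular
import Groth.Agent.L01.NormalDomain
import Groth.Agent.L07.CIScheme
import Groth.Agent.L07.BlowLib.ProperInter
import Groth.Agent.L13.Purity.Global
import Groth.Prelude.Def_CInt

/-!
# Hartogs extension for opens big in every fibre of a smooth family

If `U` is an open of `P`, smooth over an arbitrary base `S`, whose complement has codimension at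
least two in every fibre, then morphisms to schemes affine over a target extend uniquely from `U`.
-/

set_option autoImplicit false
set_option linter.style.haveILetI false
set_option backward.isDefEq.respectTransparency false
set_option backward.isDefEq.respectTransparency.types false

universe u

open CategoryTheory Limits AlgebraicGeometry TopologicalSpace

noncomputable section

namespace Groth.L22.BigHartogs

/-- Functions extend across the complement of `U` on small affine neighbourhoods. -/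
def HasExt {Z : Scheme.{u}} (U : Z.Opens) : Prop :=
  ∀ (z : Z) (O : Z.Opens), z ∈ O → ∃ W : Z.Opens, IsAffineOpen W ∧ z ∈ W ∧ W ≤ O ∧
    Function.Bijective (Z.homOfLE (inf_le_left : W ⊓ U ≤ W)).appTop

theorem isIso_restrict_of_le {X Y : Scheme.{u}} (r : X ⟶ Y) [IsOpenImmersion r] {W : Y.Opens}
    (h : W ≤ r.opensRange) : IsIso (r ∣_ W) := by
  haveI : Surjective (r ∣_ W) := ⟨fun w => by
    obtain ⟨z, hz⟩ := h w.2
    exact ⟨⟨z, show r z ∈ W from hz ▸ w.2⟩, Subtype.ext (by rw [morphismRestrict_base]; exact hz)⟩⟩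
  haveI : Epi (r ∣_ W).base := (TopCat.epi_iff_surjective _).2 (r ∣_ W).surjective
  exact IsOpenImmersion.isIso _

theorem hasExt_of_isOpenImmersion {Z P : Scheme.{u}} {U : Z.Opens} (hex : HasExt U) (r : P ⟶ Z)
    [IsOpenImmersion r] : HasExt (r ⁻¹ᵁ U) := by
  intro p O hp
  obtain ⟨W, hW, hzW, hWO, hbij⟩ := hex (r p) (r ''ᵁ O) ⟨p, hp, rfl⟩
  have hWr : W ≤ r.opensRange := hWO.trans (r.image_le_opensRange O)
  have hO : r ⁻¹ᵁ W ≤ O := (r.preimage_mono hWO).trans (r.preimage_image_eq O).le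
  refine ⟨r ⁻¹ᵁ W, hW.preimage_of_isOpenImmersion r hWr, hzW, hO, ?_⟩
  haveI h1 : IsIso (r ∣_ W) := isIso_restrict_of_le r hWr
  haveI h2 : IsIso (r ∣_ (W ⊓ U)) :=
    isIso_restrict_of_le r (inf_le_left.trans hWr)
  have e : (r ∣_ (W ⊓ U)) ≫ Z.homOfLE (inf_le_left : W ⊓ U ≤ W) =
      P.homOfLE (inf_le_left : r ⁻¹ᵁ W ⊓ r ⁻¹ᵁ U ≤ r ⁻¹ᵁ W) ≫ (r ∣_ W) := by
    rw [← cancel_mono W.ι, Category.assoc, Category.assoc, Scheme.homOfLE_ι, morphismRestrict_ι,
      morphismRestrict_ι, Scheme.homOfLE_ι_assoc]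
    rfl
  have e' := congrArg Scheme.Hom.appTop e
  rw [Scheme.Hom.comp_appTop, Scheme.Hom.comp_appTop] at e'
  have hb : Function.Bijective ((Z.homOfLE (inf_le_left : W ⊓ U ≤ W)).appTop ≫ (r ∣_ (W ⊓ U)).appTop) :=
    (ConcreteCategory.bijective_of_isIso (r ∣_ (W ⊓ U)).appTop).comp hbij
  rw [e'] at hb
  exact (Function.Bijective.of_comp_iff _ (ConcreteCategory.bijective_of_isIso (r ∣_ W).appTop)).1 hb

section Extend

variable {Z : Scheme.{u}} {U : Z.Opens} (hex : HasExt U)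

variable {T B : Scheme.{u}} (t : T ⟶ B) [IsAffineHom t]

include hex in
/-- A morphism to a scheme affine over `B` is determined on the preimage of `U`. -/
theorem ext {a b : Z ⟶ T} (h : a ≫ t = b ≫ t) (hU' : (U).ι ≫ a = (U).ι ≫ b) :
    a = b := by
  refine Scheme.hom_ext_of_forall _ _ fun z => ?_
  obtain ⟨O, hO, hzO, -⟩ :=
    exists_isAffineOpen_mem_and_subset (X := B) (x := t (a z)) (U := ⊤) trivial
  obtain ⟨W, hW, hzW, hWO, hbij⟩ := hex z ((a ≫ t) ⁻¹ᵁ O) hzO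
  refine ⟨W, hzW, ?_⟩
  have ha : Set.range (W.ι ≫ a) ⊆ Set.range (t ⁻¹ᵁ O).ι := by
    rintro _ ⟨w, rfl⟩
    rw [Scheme.Opens.range_ι]
    exact hWO w.2
  have hb : Set.range (W.ι ≫ b) ⊆ Set.range (t ⁻¹ᵁ O).ι := by
    rintro _ ⟨w, rfl⟩
    rw [Scheme.Opens.range_ι]
    have : w.1 ∈ (b ≫ t) ⁻¹ᵁ O := h ▸ hWO w.2
    exact this
  have : IsAffine (t ⁻¹ᵁ O).toScheme := hO.preimage t
  obtain ⟨φ, -, hφ⟩ := Groth.L13.HartogsFF.exists_unique_lift (T := (t ⁻¹ᵁ O).toScheme)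
    (Z.homOfLE (inf_le_left : W ⊓ U ≤ W)) hbij
    (Z.homOfLE inf_le_left ≫ IsOpenImmersion.lift _ _ ha)
  have e1 := hφ (IsOpenImmersion.lift _ _ ha) rfl
  have e2 := hφ (IsOpenImmersion.lift _ _ hb) (by
    dsimp only
    rw [← cancel_mono (t ⁻¹ᵁ O).ι, Category.assoc, Category.assoc, IsOpenImmersion.lift_fac,
      IsOpenImmersion.lift_fac, Scheme.homOfLE_ι_assoc, Scheme.homOfLE_ι_assoc,
      ← Z.homOfLE_ι (inf_le_right : W ⊓ U ≤ U), Category.assoc, Category.assoc, hU'])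
  rw [← IsOpenImmersion.lift_fac (t ⁻¹ᵁ O).ι _ ha, ← IsOpenImmersion.lift_fac (t ⁻¹ᵁ O).ι _ hb,
    e1, e2]

include hex in
/-- A morphism to a scheme affine over `B` extends from the preimage of `U`. -/
theorem exists_extend (c : Z ⟶ B) (ψ : (U).toScheme ⟶ T)
    (hψ : ψ ≫ t = (U).ι ≫ c) : ∃ a : Z ⟶ T, a ≫ t = c ∧ (U).ι ≫ a = ψ := by
  let I := {W : Z.Opens // ∃ a : W.toScheme ⟶ T, a ≫ t = W.ι ≫ c ∧
    Z.homOfLE (inf_le_left : W ⊓ U ≤ W) ≫ a = Z.homOfLE inf_le_right ≫ ψ}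
  have hcov : IsOpenCover (fun W : I => W.1) := IsOpenCover.mk (eq_top_iff.2 fun z _ => by
    obtain ⟨O, hO, hzO, -⟩ :=
      exists_isAffineOpen_mem_and_subset (X := B) (x := c z) (U := ⊤) trivial
    obtain ⟨W, hW, hzW, hWO, hbij⟩ := hex z (c ⁻¹ᵁ O) hzO
    have : IsAffine O.toScheme := hO
    have : IsAffine (t ⁻¹ᵁ O).toScheme := hO.preimage t
    let j := Z.homOfLE (inf_le_left : W ⊓ U ≤ W)
    have hc : Set.range (W.ι ≫ c) ⊆ Set.range O.ι := by
      rintro _ ⟨w, rfl⟩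
      rw [Scheme.Opens.range_ι]
      exact hWO w.2
    have hr : Set.range (Z.homOfLE (inf_le_right : W ⊓ U ≤ U) ≫ ψ) ⊆
        Set.range (t ⁻¹ᵁ O).ι := by
      rintro _ ⟨w, rfl⟩
      rw [Scheme.Opens.range_ι]
      show ((Z.homOfLE inf_le_right ≫ ψ) ≫ t) w ∈ O
      rw [Category.assoc, hψ, Scheme.homOfLE_ι_assoc]
      exact hWO w.2.1
    obtain ⟨φ, hφ, -⟩ := Groth.L13.HartogsFF.exists_unique_lift (T := (t ⁻¹ᵁ O).toScheme) j
      hbij (IsOpenImmersion.lift _ _ hr)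
    obtain ⟨φ', -, hφ'⟩ := Groth.L13.HartogsFF.exists_unique_lift (T := O.toScheme) j
      hbij (j ≫ IsOpenImmersion.lift _ _ hc)
    refine Opens.mem_iSup.2 ⟨⟨W, φ ≫ (t ⁻¹ᵁ O).ι, ?_, ?_⟩, hzW⟩
    · rw [Category.assoc, ← morphismRestrict_ι t O, ← IsOpenImmersion.lift_fac O.ι _ hc,
        ← Category.assoc, hφ' _ rfl, hφ' (φ ≫ t ∣_ O) ?_]
      dsimp only
      rw [← cancel_mono O.ι, Category.assoc, Category.assoc, morphismRestrict_ι,
        reassoc_of% hφ, IsOpenImmersion.lift_fac_assoc, Category.assoc, hψ,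
        Category.assoc, IsOpenImmersion.lift_fac, Scheme.homOfLE_ι_assoc, Scheme.homOfLE_ι_assoc]
    · rw [reassoc_of% hφ, IsOpenImmersion.lift_fac])
  let 𝒰 := Z.openCoverOfIsOpenCover _ hcov
  choose φ hφt hφU using fun W : I => W.2
  have hlift : ∀ (k : I) {P : Scheme.{u}} (r : P ⟶ Z) (p : P ⟶ k.1.toScheme), p ≫ k.1.ι = r →
      ∃ s : (r ⁻¹ᵁ U).toScheme ⟶ (U).toScheme,
        s ≫ (U).ι = (r ⁻¹ᵁ U).ι ≫ r ∧
        (r ⁻¹ᵁ U).ι ≫ p ≫ φ k = s ≫ ψ := by
    rintro k P r p rfl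
    have hs : Set.range (((p ≫ k.1.ι) ⁻¹ᵁ U).ι ≫ p ≫ k.1.ι) ⊆
        Set.range (k.1 ⊓ U).ι := by
      rintro _ ⟨w, rfl⟩
      rw [Scheme.Opens.range_ι]
      exact ⟨(p w.1).2, w.2⟩
    refine ⟨IsOpenImmersion.lift _ _ hs ≫ Z.homOfLE inf_le_right, ?_, ?_⟩
    · exact (Category.assoc _ _ _).trans ((congrArg (_ ≫ ·) (Z.homOfLE_ι _)).trans
        (IsOpenImmersion.lift_fac _ _ _))
    · refine Eq.trans ?_ (((congrArg (IsOpenImmersion.lift _ _ hs ≫ ·) (hφU k))).trans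
        (Category.assoc _ _ _).symm)
      refine (Category.assoc _ _ _).symm.trans ((congrArg (· ≫ φ k) ?_).trans (Category.assoc _ _ _))
      refine (cancel_mono k.1.ι).1 ?_
      exact (Category.assoc _ _ _).trans ((IsOpenImmersion.lift_fac _ _ hs).symm.trans
        (((congrArg (IsOpenImmersion.lift _ _ hs ≫ ·) (Z.homOfLE_ι inf_le_left)).symm).trans
          (Category.assoc _ _ _).symm))
  have hcompat : ∀ W W' : I, pullback.fst W.1.ι W'.1.ι ≫ φ W =
      pullback.snd W.1.ι W'.1.ι ≫ φ W' := by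
    intro W W'
    let r : pullback W.1.ι W'.1.ι ⟶ Z := pullback.fst W.1.ι W'.1.ι ≫ W.1.ι
    refine ext (hasExt_of_isOpenImmersion hex r) t ?_ ?_
    · rw [Category.assoc, Category.assoc, hφt, hφt]
      exact pullback.condition_assoc c
    · obtain ⟨s₁, hs₁, e₁⟩ := hlift W r (pullback.fst _ _) rfl
      obtain ⟨s₂, hs₂, e₂⟩ := hlift W' r (pullback.snd _ _) pullback.condition.symm
      exact e₁.trans ((congrArg (· ≫ ψ) ((cancel_mono (U).ι).1 (hs₁.trans hs₂.symm))).trans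
        e₂.symm)
  refine ⟨𝒰.glueMorphisms φ hcompat, ?_, ?_⟩
  · refine 𝒰.hom_ext _ _ fun W => ?_
    rw [Scheme.Cover.ι_glueMorphisms_assoc]
    exact hφt W
  · refine Scheme.hom_ext_of_forall _ _ fun z => ?_
    obtain ⟨W, hzW⟩ := Opens.mem_iSup.1 (hcov.iSup_eq_top ▸ trivial : z.1 ∈ ⨆ W : I, W.1)
    refine ⟨(U).ι ⁻¹ᵁ W.1, hzW, ?_⟩
    have hs : Set.range (((U).ι ⁻¹ᵁ W.1).ι ≫ (U).ι) ⊆
        Set.range (W.1 ⊓ U).ι := by
      rintro _ ⟨w, rfl⟩
      rw [Scheme.Opens.range_ι]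
      exact ⟨w.2, w.1.2⟩
    have hg1 : W.1.ι ≫ 𝒰.glueMorphisms φ hcompat = φ W :=
      Scheme.Cover.ι_glueMorphisms 𝒰 φ hcompat W
    have h1 : ((U).ι ⁻¹ᵁ W.1).ι ≫ (U).ι =
        IsOpenImmersion.lift _ _ hs ≫ Z.homOfLE inf_le_left ≫ W.1.ι := by
      rw [Scheme.homOfLE_ι, IsOpenImmersion.lift_fac]
    rw [reassoc_of% h1, hg1, hφU W, ← Category.assoc]
    congr 1
    rw [← cancel_mono (U).ι, Category.assoc, Scheme.homOfLE_ι, IsOpenImmersion.lift_fac]


end Extend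

/-- Restriction from an affine open containing no point of the complement. -/
theorem bijective_of_le {Z : Scheme.{u}} {U W : Z.Opens} (h : W ≤ U) :
    Function.Bijective (Z.homOfLE (inf_le_left : W ⊓ U ≤ W)).appTop := by
  have : Z.homOfLE (inf_le_left : W ⊓ U ≤ W) = (Z.isoOfEq (inf_eq_left.2 h)).hom := by
    rw [← cancel_mono W.ι]
    simp
  rw [this]
  exact ConcreteCategory.bijective_of_isIso _

/-- Restriction from an affine open with a regular pair cutting out the complement. -/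
theorem bijective_of_pair {Z : Scheme.{u}} {U W : Z.Opens} (hW : IsAffineOpen W) {x y : Γ(Z, W)}
    (hx : Z.basicOpen x ≤ U) (hy : Z.basicOpen y ≤ U)
    (hx0 : ∀ a, x * a = 0 → a = 0) (hy0 : ∀ a, y * a ∈ Ideal.span {x} → a ∈ Ideal.span {x}) :
    Function.Bijective (Z.homOfLE (inf_le_left : W ⊓ U ≤ W)).appTop := by
  let U₀ : (Spec Γ(Z, W)).Opens := hW.fromSpec ⁻¹ᵁ U
  have h := Groth.L12.DefTLib.bijective_res_of_regular_pair U₀ (x := x) (y := y)
    (by rw [← hW.fromSpec_preimage_basicOpen x]; exact hW.fromSpec.preimage_mono hx)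
    (by rw [← hW.fromSpec_preimage_basicOpen y]; exact hW.fromSpec.preimage_mono hy) hx0 hy0
  haveI h1 : IsIso (hW.fromSpec ∣_ W) :=
    isIso_restrict_of_le _ hW.opensRange_fromSpec.ge
  haveI h2 : IsIso (hW.fromSpec ∣_ (W ⊓ U)) :=
    isIso_restrict_of_le _ (inf_le_left.trans hW.opensRange_fromSpec.ge)
  have hpre : hW.fromSpec ⁻¹ᵁ W = ⊤ := hW.fromSpec_preimage_self
  have hpre' : hW.fromSpec ⁻¹ᵁ (W ⊓ U) = U₀ := by
    show hW.fromSpec ⁻¹ᵁ W ⊓ hW.fromSpec ⁻¹ᵁ U = U₀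
    rw [hpre, top_inf_eq]
  let a : U₀.toScheme ≅ (W ⊓ U : Z.Opens).toScheme :=
    (Spec Γ(Z, W)).isoOfEq hpre'.symm ≪≫ asIso (hW.fromSpec ∣_ (W ⊓ U))
  let b : Spec Γ(Z, W) ≅ W.toScheme :=
    (Spec Γ(Z, W)).topIso.symm ≪≫ (Spec Γ(Z, W)).isoOfEq hpre.symm ≪≫ asIso (hW.fromSpec ∣_ W)
  have e : a.hom ≫ Z.homOfLE (inf_le_left : W ⊓ U ≤ W) = U₀.ι ≫ b.hom := by
    rw [← cancel_mono W.ι]
    simp [a, b]
  have e' := congrArg Scheme.Hom.appTop e
  rw [Scheme.Hom.comp_appTop, Scheme.Hom.comp_appTop] at e'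
  have hι : Function.Bijective U₀.ι.appTop := by
    have : U₀.ι.appTop = (Spec Γ(Z, W)).presheaf.map (homOfLE (le_top : U₀ ≤ ⊤)).op ≫ U₀.topIso.inv := by
      rw [Scheme.Opens.ι_appTop, Scheme.Opens.topIso_inv]
      exact (congrArg (Spec Γ(Z, W)).presheaf.map (Subsingleton.elim _ _)).trans (Functor.map_comp _ _ _)
    rw [this]
    exact (ConcreteCategory.bijective_of_isIso U₀.topIso.inv).comp h
  have hb : Function.Bijective (b.hom.appTop ≫ U₀.ι.appTop) :=
    hι.comp (ConcreteCategory.bijective_of_isIso b.hom.appTop)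
  rw [← e'] at hb
  exact (Function.Bijective.of_comp_iff' (ConcreteCategory.bijective_of_isIso a.hom.appTop) _).1 hb

/-- An element of an ideal avoiding finitely many primes. -/
theorem exists_avoid {R A : Type u} [CommRing R] [CommRing A] (φ : R →+* A) (J : Ideal R)
    (S : Set (Ideal A)) (hS : S.Finite) (hP : ∀ P ∈ S, P.IsPrime) (hne : ∀ P ∈ S, ¬ J.map φ ≤ P) :
    ∃ j ∈ J, ∀ P ∈ S, φ j ∉ P := by
  by_contra! h
  have hsub : (J : Set R) ⊆ ⋃ P ∈ (hS.toFinset : Set (Ideal A)), (P.comap φ : Set R) := fun z hz => by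
    obtain ⟨P, hPS, hzP⟩ := h z hz
    exact Set.mem_iUnion₂.mpr ⟨P, by simpa using hPS, hzP⟩
  obtain ⟨P, hPS, hle⟩ := (Ideal.subset_union_prime (f := fun P : Ideal A => P.comap φ) ⊥ ⊥
    (fun P hPS _ _ => by
      haveI := hP P (by simpa using hPS)
      exact Ideal.IsPrime.comap φ)).mp hsub
  exact hne P (by simpa using hPS) (Ideal.map_le_iff_le_comap.2 hle)

/-- A regular pair in a normal Noetherian domain from an ideal of height at least two. -/
theorem exists_pair {R A : Type u} [CommRing R] [CommRing A] [IsDomain A] [IsNoetherianRing A]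
    [IsIntegrallyClosed A] (φ : R →+* A) (J : Ideal R)
    (hJ : ∀ q : Ideal A, q.IsPrime → J.map φ ≤ q → 2 ≤ q.height) :
    ∃ x ∈ J, ∃ y ∈ J, φ x ≠ 0 ∧ ∀ a, φ y * a ∈ Ideal.span {φ x} → a ∈ Ideal.span {φ x} := by
  obtain ⟨x, hx, hx0⟩ : ∃ x ∈ J, φ x ≠ 0 := by
    by_contra! h
    have := hJ ⊥ Ideal.isPrime_bot (Ideal.map_le_iff_le_comap.2 fun z hz => h z hz)
    rw [Ideal.height_bot] at this
    exact absurd this (by decide)
  obtain ⟨y, hy, hyP⟩ := exists_avoid φ J _ (associatedPrimes.finite A (A ⧸ Ideal.span {φ x}))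
    (fun P hP => hP.isPrime) fun P hP hle => by
      haveI := hP.isPrime
      have := hJ P hP.isPrime hle
      rw [Groth.L01.height_eq_one_of_mem_associatedPrimes hx0 hP] at this
      exact absurd this (by decide)
  refine ⟨x, hx, y, hy, hx0, fun a ha => ?_⟩
  by_contra hne
  have hzd : φ y ∈ ⋃ P ∈ associatedPrimes A (A ⧸ Ideal.span {φ x}), (P : Set A) := by
    rw [biUnion_associatedPrimes_eq_zero_divisors]
    refine ⟨Ideal.Quotient.mk _ a, fun h => hne (Ideal.Quotient.eq_zero_iff_mem.mp h), ?_⟩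
    exact Ideal.Quotient.eq_zero_iff_mem.mpr ha
  obtain ⟨P, hPA, hP⟩ := Set.mem_iUnion₂.mp hzd
  exact hyP P hPA hP

open RingTheory.Sequence Pointwise in
theorem isWeaklyRegular_pair_iff {A : Type u} [CommRing A] (x y : A) :
    IsWeaklyRegular A [x, y] ↔
      (∀ a, x * a = 0 → a = 0) ∧ ∀ a, y * a ∈ Ideal.span {x} → a ∈ Ideal.span {x} := by
  rw [isWeaklyRegular_cons_iff, isWeaklyRegular_singleton_iff]
  have hspan : ∀ a : A, a ∈ x • (⊤ : Submodule A A) ↔ a ∈ Ideal.span {x} := fun a => by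
    rw [Submodule.mem_smul_pointwise_iff_exists, Ideal.mem_span_singleton']
    exact ⟨fun ⟨b, _, h⟩ => ⟨b, by rw [mul_comm]; exact h⟩,
      fun ⟨b, h⟩ => ⟨b, trivial, by rw [smul_eq_mul, mul_comm]; exact h⟩⟩
  refine and_congr isSMulRegular_iff_right_eq_zero_of_smul ?_
  rw [isSMulRegular_iff_right_eq_zero_of_smul]
  constructor
  · intro h a ha
    refine (hspan a).1 ((Submodule.Quotient.mk_eq_zero _).1 (h (Submodule.Quotient.mk a) ?_))
    rw [← Submodule.Quotient.mk_smul, Submodule.Quotient.mk_eq_zero, hspan]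
    exact ha
  · intro h q hq
    induction q using Submodule.Quotient.induction_on with
    | H a =>
      rw [← Submodule.Quotient.mk_smul, Submodule.Quotient.mk_eq_zero, hspan] at hq
      rw [Submodule.Quotient.mk_eq_zero, hspan]
      exact h a hq

/-- An open big in every fibre of a smooth morphism has extension of functions. -/
theorem hasExt_of_big {P S : Scheme.{u}} (f : P ⟶ S) [Smooth f] (U : P.Opens)
    (hU : ∀ x : P, x ∉ U → (2 : WithBot ℕ∞) ≤ ringKrullDim ↑(CInt.fiberStalk f x)) : HasExt U := by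
  classical
  intro x₀ O hxO
  by_cases hxU : x₀ ∈ U
  · obtain ⟨W, hW, hxW, hle⟩ := exists_isAffineOpen_mem_and_subset (U := O ⊓ U) (x := x₀) ⟨hxO, hxU⟩
    exact ⟨W, hW, hxW, fun w hw => (hle hw).1, bijective_of_le fun w hw => (hle hw).2⟩
  obtain ⟨s, y, rfl⟩ : ∃ (s : S) (y : f.fiber s), f.fiberι s y = x₀ :=
    ⟨f x₀, f.asFiber x₀, f.fiberι_asFiber x₀⟩
  have hdim : ∀ w : f.fiber s, ringKrullDim ↑((f.fiber s).presheaf.stalk w) =
      ringKrullDim ↑(CInt.fiberStalk f (f.fiberι s w)) := by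
    intro w
    obtain ⟨e₁⟩ := Groth.L07.CIScheme.exists_fiberStalkEquiv f s w _ rfl
    obtain ⟨e₂⟩ := Groth.L07.CIScheme.exists_fiberStalkEquiv f (f (f.fiberι s w)) (f.asFiber _) _
      (f.fiberι_asFiber (f.fiberι s w))
    exact ringKrullDim_eq_of_ringEquiv (e₁.symm.trans e₂)
  haveI hsm : Smooth (f.fiberToSpecResidueField s) := MorphismProperty.pullback_snd f _ inferInstance
  let A := (f.fiber s).presheaf.stalk y
  haveI hreg : IsRegularLocalRing A :=
    @Groth.L21.Smooth.regular_stalk _ _ _ (f.fiberToSpecResidueField s) hsm y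
  haveI : IsDomain A := Groth.L01.isDomain_of_regular A
  haveI : IsIntegrallyClosed A := Groth.L03.RegularNormal.isIntegrallyClosed A
  let x := f.fiberι s y
  obtain ⟨W₀, hW₀, hxW₀, hW₀O⟩ := exists_isAffineOpen_mem_and_subset (U := O) (x := x) hxO
  let T : Set (PrimeSpectrum Γ(P, W₀)) := hW₀.fromSpec ⁻¹' ((U : Set P)ᶜ)
  have hT : IsClosed T := U.isOpen.isClosed_compl.preimage hW₀.fromSpec.continuous
  let J := PrimeSpectrum.vanishingIdeal T
  have hJU : ∀ j ∈ J, P.basicOpen j ≤ U := by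
    intro j hj p hp
    by_contra hpU
    obtain ⟨Q, hQ⟩ : p ∈ Set.range hW₀.fromSpec := by
      rw [hW₀.range_fromSpec]; exact P.basicOpen_le j hp
    have h1 : Q ∈ hW₀.fromSpec ⁻¹ᵁ P.basicOpen j := by rw [← hQ] at hp; exact hp
    rw [hW₀.fromSpec_preimage_basicOpen] at h1
    exact h1 ((PrimeSpectrum.mem_vanishingIdeal _ _).1 hj Q (by
      show hW₀.fromSpec Q ∈ (U : Set P)ᶜ
      rw [hQ]; exact hpU))
  let σ := (f.fiberι s).stalkMap y
  let φ : Γ(P, W₀) →+* A := (P.presheaf.germ W₀ x hxW₀ ≫ σ).hom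
  have hJh : ∀ q : Ideal A, q.IsPrime → J.map φ ≤ q → 2 ≤ q.height := by
    intro q hq hle
    let Q : PrimeSpectrum A := ⟨q, hq⟩
    let w := (f.fiber s).fromSpecStalk y Q
    have hw : f.fiberι s w =
        hW₀.fromSpec (Spec.map (P.presheaf.germ W₀ x hxW₀) (Spec.map σ Q)) := by
      have h1 := congr($(Scheme.SpecMap_stalkMap_fromSpecStalk (f := f.fiberι s) (x := y)) Q)
      rw [Scheme.Hom.comp_apply, Scheme.Hom.comp_apply,
        ← hW₀.fromSpecStalk_eq_fromSpecStalk hxW₀] at h1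
      exact h1.symm
    have hTq : Spec.map (P.presheaf.germ W₀ x hxW₀) (Spec.map σ Q) ∈ T := by
      rw [← hT.closure_eq, ← PrimeSpectrum.zeroLocus_vanishingIdeal_eq_closure]
      intro j hj
      exact hle (Ideal.mem_map_of_mem φ hj)
    have hwU : f.fiberι s w ∉ U := by rw [hw]; exact hTq
    have h2 := hU _ hwU
    rw [← hdim, AlgebraicGeometry.ringKrullDim_stalk_eq_coheight,
      Groth.L07.BlowLib.coheight_fromSpecStalk] at h2
    rw [show q.height = Order.height Q from PrimeSpectrum.height_eq_orderHeight Q]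
    exact WithBot.coe_le_coe.1 h2
  obtain ⟨j₁, hj₁, j₂, hj₂, hne, hreg2⟩ := exists_pair φ J hJh
  have hTx : ∀ j ∈ J, P.presheaf.germ W₀ x hxW₀ j ∈ IsLocalRing.maximalIdeal (P.presheaf.stalk x) := by
    intro j hj
    rw [IsLocalRing.mem_maximalIdeal]
    intro hu
    exact hxU (hJU j hj ((P.mem_basicOpen j x hxW₀).2 hu))
  obtain ⟨hsurj, hker⟩ := Groth.L18.stalkMap_fiberι f s y
  let M := Ideal.map (f.stalkMap x).hom (IsLocalRing.maximalIdeal (S.presheaf.stalk (f x)))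
  let ε : (P.presheaf.stalk x ⧸ M) ≃+* A :=
    (Ideal.quotEquivOfEq hker.symm).trans (RingHom.quotientKerEquivOfSurjective hsurj)
  let g₁ := P.presheaf.germ W₀ x hxW₀ j₁
  let g₂ := P.presheaf.germ W₀ x hxW₀ j₂
  have hε : ∀ z, ε (Ideal.Quotient.mk M z) = σ z := fun z => rfl
  have hwr : RingTheory.Sequence.IsWeaklyRegular (P.presheaf.stalk x ⧸ M)
      ([g₁, g₂].map (Ideal.Quotient.mk M)) := by
    rw [List.map_cons, List.map_cons, List.map_nil, isWeaklyRegular_pair_iff]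
    refine ⟨fun a ha => ε.injective ?_, fun a ha => ?_⟩
    · have := congrArg ε ha
      rw [map_mul, map_zero, hε] at this
      rw [map_zero]
      exact (mul_eq_zero.1 this).resolve_left hne
    · obtain ⟨c, hc⟩ := Ideal.mem_span_singleton'.1 ha
      have := congrArg ε hc
      rw [map_mul, map_mul, hε, hε] at this
      obtain ⟨d, hd⟩ := Ideal.mem_span_singleton'.1 (hreg2 (ε a)
        (Ideal.mem_span_singleton'.2 ⟨ε c, this⟩))
      refine Ideal.mem_span_singleton'.2 ⟨ε.symm d, ε.injective ?_⟩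
      rw [map_mul, hε, RingEquiv.apply_symm_apply]
      exact hd
  obtain ⟨U', hU', hxU', hs', hle', hmap, hreg', -⟩ := L02.CAlg.QFSlice.exists_slice f x
    (AlgebraicGeometry.Flat.stalkMap f x) [g₁, g₂]
    (by intro h hh; fin_cases hh <;> [exact hTx _ hj₁; exact hTx _ hj₂]) hwr W₀ hxW₀
  obtain ⟨t₁, t₂, rfl⟩ : ∃ t₁ t₂, hs' = [t₁, t₂] := by
    have hl := congrArg List.length hmap
    match hs' with
    | [a, b] => exact ⟨a, b, rfl⟩
    | [] => simp at hl
    | [a] => simp at hl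
    | a :: b :: c :: l => simp at hl
  simp only [List.map_cons, List.map_nil, List.cons.injEq, and_true] at hmap
  obtain ⟨hm₁, hm₂⟩ := hmap
  obtain ⟨G₁, hxG₁, i₁, i₁', e₁⟩ := P.presheaf.germ_eq x hxU' hxW₀ t₁ j₁ hm₁
  obtain ⟨G₂, hxG₂, i₂, i₂', e₂⟩ := P.presheaf.germ_eq x hxU' hxW₀ t₂ j₂ hm₂
  obtain ⟨h, hhle, hxh⟩ := hU'.exists_basicOpen_le (V := G₁ ⊓ G₂) ⟨x, hxG₁, hxG₂⟩ hxU'
  let W := P.basicOpen h
  have hWU' : W ≤ U' := P.basicOpen_le h
  letI : Algebra Γ(P, U') Γ(P, W) := (P.presheaf.map (homOfLE hWU').op).hom.toAlgebra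
  haveI := hU'.isLocalization_basicOpen h
  haveI : Module.Flat Γ(P, U') Γ(P, W) := IsLocalization.flat _ (Submonoid.powers h)
  have hregW := RingTheory.Sequence.IsWeaklyRegular.of_flat (S := Γ(P, W)) hreg'
  rw [RingHom.algebraMap_toAlgebra, List.map_cons, List.map_cons, List.map_nil,
    isWeaklyRegular_pair_iff] at hregW
  refine ⟨W, hU'.basicOpen h, hxh, fun p hp => hW₀O (hle' (hWU' hp)),
    bijective_of_pair (hU'.basicOpen h) (fun p hp => ?_) (fun p hp => ?_) hregW.1 hregW.2⟩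
  · refine hJU j₁ hj₁ ?_
    have hG : W ≤ G₁ := fun q hq => (hhle hq).1
    have e : P.presheaf.map (homOfLE hWU').op t₁ =
        P.presheaf.map (homOfLE (hG.trans i₁'.le)).op j₁ := by
      have := congrArg (P.presheaf.map (homOfLE hG).op) e₁
      rw [← CommRingCat.comp_apply, ← CommRingCat.comp_apply, ← Functor.map_comp,
        ← Functor.map_comp] at this
      exact this
    rw [e, Scheme.basicOpen_res] at hp
    exact hp.2
  · refine hJU j₂ hj₂ ?_
    have hG : W ≤ G₂ := fun q hq => (hhle hq).2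
    have e : P.presheaf.map (homOfLE hWU').op t₂ =
        P.presheaf.map (homOfLE (hG.trans i₂'.le)).op j₂ := by
      have := congrArg (P.presheaf.map (homOfLE hG).op) e₂
      rw [← CommRingCat.comp_apply, ← CommRingCat.comp_apply, ← Functor.map_comp,
        ← Functor.map_comp] at this
      exact this
    rw [e, Scheme.basicOpen_res] at hp
    exact hp.2

end Groth.L22.BigHartogs
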